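import Groth.Agent.Lib.FPush7.CechZero
import Groth.Agent.Lib.BCCoh.RpushAffine
import Groth.Agent.Lib.Cohom.RpushModules
import Groth.Agent.Lib.K0Sub.KerUnit
import Groth.Agent.Lib.BlowUp.IdealComap
import Groth.Agent.Lib.FSchSys.Completion
import Groth.Agent.Lib.FMod7.ComplPull

/-!
# Formal functions in degree zero for the sections over the preimage of an affine open
-/

set_option autoImplicit false
set_option linter.style.haveILetI false
set_option linter.unusedSectionVars false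
set_option maxHeartbeats 800000
universe u

open CategoryTheory CategoryTheory.Limits AlgebraicGeometry Opposite TopologicalSpace

noncomputable section

namespace GrothLib.FPush7

open GrothLib.BCCoh GrothLib.FormalFn

/-- Multiples by an ideal, computed over either ring. -/
theorem mem_map_smul_top_iff {R S : Type*} [CommRing R] [CommRing S] (φ : R →+* S) {M : Type*} [AddCommGroup M]
    [Module R M] [Module S M] (hφ : ∀ (r : R) (m : M), r • m = φ r • m) (I : Ideal R) (x : M) :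
    x ∈ I.map φ • (⊤ : Submodule S M) ↔ x ∈ I • (⊤ : Submodule R M) := by
  refine ⟨fun hx => ?_, fun hx => ?_⟩
  · refine Submodule.smul_induction_on hx (fun s hs m _ => ?_) fun a b ha hb => add_mem ha hb
    refine Submodule.span_induction (p := fun s _ => ∀ m : M, s • m ∈ I • (⊤ : Submodule R M)) ?_ ?_ ?_ ?_ hs m
    · rintro _ ⟨r, hr, rfl⟩ m
      rw [← hφ]
      exact Submodule.smul_mem_smul hr trivial
    · intro m
      rw [zero_smul]
      exact zero_mem _
    · intro a b _ _ ha hb m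
      rw [add_smul]
      exact add_mem (ha m) (hb m)
    · intro c a _ ha m
      rw [smul_eq_mul, mul_comm, mul_smul]
      exact ha (c • m)
  · refine Submodule.smul_induction_on hx (fun r hr m _ => ?_) fun a b ha hb => add_mem ha hb
    rw [hφ]
    exact Submodule.smul_mem_smul (Ideal.mem_map_of_mem φ hr) trivial

section Restrict

variable {Z X : Scheme.{u}} (g : Z ⟶ X) {V : X.Opens} (hV : IsAffineOpen V)

/-- The preimage of an open as a scheme. -/
abbrev Wsch (V : X.Opens) : Scheme.{u} := (g ⁻¹ᵁ V : Z.Opens)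

/-- The open of the scheme below an open of the preimage. -/
abbrev img (U' : (Wsch g V).Opens) : Z.Opens := (g ⁻¹ᵁ V).ι ''ᵁ U'

theorem img_le (U' : (Wsch g V).Opens) : img g U' ≤ g ⁻¹ᵁ V := by
  rintro _ ⟨y, _, rfl⟩
  exact y.2

/-- The scalar of the base on the preimage is the pullback of functions. -/
theorem psiR_affBase (U' : (Wsch g V).Opens) (b : Γ(X, V)) :
    ((g ⁻¹ᵁ V).ι.appIso U').inv (show Γ(Wsch g V, U') from psiR (affBase g hV) U' b) =
      g.appLE V (img g U') (img_le g U') b := by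
  show ((g ⁻¹ᵁ V).ι.appIso U').inv ((Wsch g V).presheaf.map (homOfLE le_top).op
    (show Γ(Wsch g V, ⊤) from Coh.toGlobal (affBase g hV) b)) = _
  refine (ConcreteCategory.congr_hom ((g ⁻¹ᵁ V).ι.appIso_inv_naturality (homOfLE (le_top : U' ≤ ⊤)).op) _).trans ?_
  show Z.presheaf.map _ (((g ⁻¹ᵁ V).ι.appIso ⊤).inv (show Γ(Wsch g V, ⊤) from Coh.toGlobal (affBase g hV) b)) = _
  rw [toGlobal_affBase]
  exact (ConcreteCategory.congr_hom (Z.presheaf.map_comp _ _) (g.app V b)).symm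

theorem mem_smul_secA_iff (G : Z.Modules) (J : Ideal Γ(X, V)) (U' : (Wsch g V).Opens) (x : Γ(G, img g U')) :
    (show secA (affBase g hV) (G.restrict (g ⁻¹ᵁ V).ι) U' from x) ∈
        J • (⊤ : Submodule Γ(X, V) (secA (affBase g hV) (G.restrict (g ⁻¹ᵁ V).ι) U')) ↔
      x ∈ J.map (g.appLE V (img g U') (img_le g U')).hom • (⊤ : Submodule Γ(Z, img g U') Γ(G, img g U')) := by
  letI : Module Γ(X, V) Γ(G, img g U') :=
    inferInstanceAs (Module Γ(X, V) (secA (affBase g hV) (G.restrict (g ⁻¹ᵁ V).ι) U'))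
  exact (mem_map_smul_top_iff (R := Γ(X, V)) (M := Γ(G, img g U')) (g.appLE V (img g U') (img_le g U')).hom
    (fun r m => congrArg (fun z : Γ(Z, img g U') => z • m) (psiR_affBase g hV U' r)) J x).symm

end Restrict

section Units

theorem unit_iso_trans {A B Y : Scheme.{u}} (i : A ⟶ B) (e' : B ⟶ Y) (e : A ⟶ Y) (he : i ≫ e' = e) (F : Y.Modules)
    (ε : Scheme.Modules.pullback e' ⋙ Scheme.Modules.pullback i ≅ Scheme.Modules.pullback e)
    (hε : ε = Scheme.Modules.pullbackComp i e' ≪≫ Scheme.Modules.pullbackCongr he) :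
    (Scheme.Modules.pullbackPushforwardAdjunction e').unit.app F ≫ (Scheme.Modules.pushforward e').map
      ((Scheme.Modules.pullbackPushforwardAdjunction i).homEquiv _ _ (ε.app F).hom) ≫
      (Scheme.Modules.pushforwardComp i e').hom.app _ ≫ (Scheme.Modules.pushforwardCongr he).hom.app _ =
      (Scheme.Modules.pullbackPushforwardAdjunction e).unit.app F := by
  subst hε
  exact FMod7.unit_complTrans he F

variable {Z : Scheme.{u}} (𝓚 : Z.IdealSheafData) (G : Z.Modules)

/-- The unit to a level. -/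
abbrev lev : ℕ → Z.Modules := fun k => (Scheme.Modules.pushforward (FSch.completionToX Z 𝓚 k)).obj
  ((Scheme.Modules.pullback (FSch.completionToX Z 𝓚 k)).obj G)

/-- The unit to a level. -/
abbrev levUnit (k : ℕ) : G ⟶ lev 𝓚 G k :=
  (Scheme.Modules.pullbackPushforwardAdjunction (FSch.completionToX Z 𝓚 k)).unit.app G

/-- The transition between levels. -/
def levT (k : ℕ) : lev 𝓚 G (k + 1) ⟶ lev 𝓚 G k :=
  (Scheme.Modules.pushforward (FSch.completionToX Z 𝓚 (k + 1))).map ((FSch.complMod 𝓚 G).toPush k) ≫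
    (Scheme.Modules.pushforwardComp ((FSch.completionAlong Z 𝓚).ι k) (FSch.completionToX Z 𝓚 (k + 1))).hom.app _ ≫
      (Scheme.Modules.pushforwardCongr (FSch.completionToX_comm Z 𝓚 k)).hom.app _

theorem levUnit_levT (k : ℕ) : levUnit 𝓚 G (k + 1) ≫ levT 𝓚 G k = levUnit 𝓚 G k := by
  rw [levUnit, levT, FSch.ModSys.toPush, FSch.complMod_e]
  exact unit_iso_trans _ _ _ (FSch.completionToX_comm Z 𝓚 k) G (FSch.complTransIso 𝓚 k) (by rw [FSch.complTransIso])

theorem levT_def (k : ℕ) : levT 𝓚 G k =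
    (Scheme.Modules.pushforward (FSch.completionToX Z 𝓚 (k + 1))).map ((FSch.complMod 𝓚 G).toPush k) ≫
      (Scheme.Modules.pushforwardComp ((FSch.completionAlong Z 𝓚).ι k) (FSch.completionToX Z 𝓚 (k + 1))).hom.app _ ≫
        (Scheme.Modules.pushforwardCongr (FSch.completionToX_comm Z 𝓚 k)).hom.app _ := by
  with_reducible_and_instances unfold levT
  rfl

/-- The unit to a level, into the module of the system. -/
abbrev levUnitM (k : ℕ) :
    G ⟶ (Scheme.Modules.pushforward (FSch.completionToX Z 𝓚 k)).obj ((FSch.complMod 𝓚 G).F k) :=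
  levUnit 𝓚 G k

theorem levUnitM_trans (k : ℕ) : levUnitM 𝓚 G (k + 1) ≫
    (Scheme.Modules.pushforward (FSch.completionToX Z 𝓚 (k + 1))).map ((FSch.complMod 𝓚 G).toPush k) ≫
      (Scheme.Modules.pushforwardComp ((FSch.completionAlong Z 𝓚).ι k) (FSch.completionToX Z 𝓚 (k + 1))).hom.app _ ≫
        (Scheme.Modules.pushforwardCongr (FSch.completionToX_comm Z 𝓚 k)).hom.app _ = levUnitM 𝓚 G k := by
  rw [levUnitM, levUnitM, levUnit, FSch.ModSys.toPush, FSch.complMod_e]
  exact unit_iso_trans _ _ _ (FSch.completionToX_comm Z 𝓚 k) G (FSch.complTransIso 𝓚 k) (by rw [FSch.complTransIso])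

theorem levUnit_affine (hG : Coh.IsCoh G) (k : ℕ) (U : Z.affineOpens) :
    Function.Surjective ((levUnit 𝓚 G k).app U.1) ∧ ∀ m : Γ(G, U.1), (levUnit 𝓚 G k).app U.1 m = 0 ↔
      m ∈ (𝓚 ^ (k + 1)).ideal U • (⊤ : Submodule Γ(Z, U.1) Γ(G, U.1)) := by
  haveI := hG.1
  haveI : IsClosedImmersion (FSch.completionToX Z 𝓚 k) :=
    inferInstanceAs (IsClosedImmersion (𝓚 ^ (k + 1)).subschemeι)
  have h := K0Sub.app_unit_surjective_and_ker (FSch.completionToX Z 𝓚 k) G U
  rw [FSchSys.ker_completionToX] at h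
  exact ⟨h.1, h.2⟩

theorem app_eq_of_app_eq {F : Z.Modules} (Q : ℕ → Z.Modules) (u : ∀ k, F ⟶ Q k) (t : ∀ k, Q (k + 1) ⟶ Q k)
    (hut : ∀ k, u (k + 1) ≫ t k = u k) (U : Z.Opens) (y : ∀ k, Γ(Q k, U))
    (hy : ∀ k, (t k).app U (y (k + 1)) = y k) (s : Γ(F, U)) (k : ℕ) :
    ∀ d, (u (k + d)).app U s = y (k + d) → (u k).app U s = y k
  | 0, h => h
  | d + 1, h => by
    refine app_eq_of_app_eq Q u t hut U y hy s k d ?_
    rw [← hy, ← hut (k + d), Scheme.Modules.Hom.comp_app]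
    exact congrArg ((t (k + d)).app U) h

theorem levUnit_eq_of_levUnit_eq (U : Z.Opens) (y : ∀ k, Γ(lev 𝓚 G k, U))
    (hy : ∀ k, (levT 𝓚 G k).app U (y (k + 1)) = y k) (s : Γ(G, U)) (k d : ℕ)
    (h : (levUnit 𝓚 G (k + d)).app U s = y (k + d)) : (levUnit 𝓚 G k).app U s = y k :=
  app_eq_of_app_eq (lev 𝓚 G) (levUnit 𝓚 G) (levT 𝓚 G) (levUnit_levT 𝓚 G) U y hy s k d h

end Units

section Main

variable {Z X : Scheme.{u}} (g : Z ⟶ X) [IsProper g] [IsLocallyNoetherian X] {V : X.Opens} (hV : IsAffineOpen V)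
  (𝓘 : X.IdealSheafData) (G : Z.Modules) (hG : Coh.IsCoh G)

include hV hG in
/-- Formal functions in degree zero over an affine open. -/
theorem exists_push_bound_gen (Q : ℕ → Z.Modules) (u : ∀ k, G ⟶ Q k) (t : ∀ k, Q (k + 1) ⟶ Q k)
    (hut : ∀ k, u (k + 1) ≫ t k = u k)
    (hu : ∀ (k : ℕ) (U : Z.affineOpens), Function.Surjective ((u k).app U.1) ∧ ∀ m : Γ(G, U.1), (u k).app U.1 m = 0 ↔
      m ∈ ((𝓘.comap g) ^ (k + 1)).ideal U • (⊤ : Submodule Γ(Z, U.1) Γ(G, U.1))) :
    ∃ c : ℕ, (∀ k (s : Γ(G, g ⁻¹ᵁ V)), (u (k + c)).app (g ⁻¹ᵁ V) s = 0 →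
        (show Γ((Scheme.Modules.pushforward g).obj G, V) from s) ∈
          ((𝓘 ^ (k + 1)).ideal ⟨V, hV⟩) • (⊤ : Submodule Γ(X, V) Γ((Scheme.Modules.pushforward g).obj G, V))) ∧
      ∀ (y : ∀ k, Γ(Q k, g ⁻¹ᵁ V)),
        (∀ k, (t k).app (g ⁻¹ᵁ V) (y (k + 1)) = y k) →
        ∀ k, ∃ m : Γ(G, g ⁻¹ᵁ V), (u k).app (g ⁻¹ᵁ V) m = y k := by
  haveI := IsLocallyNoetherian.component_noetherian (X := X) ⟨V, hV⟩
  haveI : IsLocallyNoetherian Z := LocallyOfFiniteType.isLocallyNoetherian g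
  let j := (g ⁻¹ᵁ V).ι
  letI : (Wsch g V).Over (Spec (CommRingCat.of Γ(X, V))) := ⟨affBase g hV⟩
  haveI : IsProper (Wsch g V ↘ Spec (CommRingCat.of Γ(X, V))) :=
    inferInstanceAs (IsProper ((g ∣_ V) ≫ hV.isoSpec.hom))
  obtain ⟨κ, hκ, U, hcov, haff⟩ := exists_cover (X := Wsch g V) Γ(X, V)
  have hG' := Cohom.isCoh_restrict G hG j
  obtain ⟨c, hc1, hc2⟩ := exists_bound U ((𝓘.ideal ⟨V, hV⟩)) hcov haff (G.restrict j) hG'
  have hpow : ∀ n, (𝓘 ^ (n + 1)).ideal ⟨V, hV⟩ = 𝓘.ideal ⟨V, hV⟩ ^ (n + 1) := fun n => by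
    rw [Scheme.IdealSheafData.ideal_pow]
    rfl
  have hUaff : ∀ i, IsAffineOpen (U i) := fun i => by
    have h := haff 0 fun _ => i
    rwa [iInf_const] at h
  have hideal : ∀ (U' : (Wsch g V).Opens) (hU' : IsAffineOpen (img g U')) (n : ℕ),
      ((𝓘.comap g) ^ (n + 1)).ideal ⟨img g U', hU'⟩ =
        (𝓘.ideal ⟨V, hV⟩ ^ (n + 1)).map (g.appLE V (img g U') (img_le g U')).hom := fun U' hU' n => by
    rw [← FSchSys.comap_pow, ← hpow n]
    exact BlowUp.ideal_comap_eq_map _ g ⟨V, hV⟩ ⟨_, hU'⟩ (img_le g U')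
  have hzero : ∀ (U' : (Wsch g V).Opens) (hU' : IsAffineOpen U') (n : ℕ) (x : Γ(G, img g U')),
      (u n).app (img g U') x = 0 ↔
        (show secA (affBase g hV) (G.restrict j) U' from x) ∈ 𝓘.ideal ⟨V, hV⟩ ^ (n + 1) •
          (⊤ : Submodule Γ(X, V) (secA (affBase g hV) (G.restrict j) U')) := fun U' hU' n x => by
    have hi : IsAffineOpen (img g U') := hU'.image_of_isOpenImmersion j
    rw [(hu n ⟨_, hi⟩).2 x, hideal U' hi n]
    exact (mem_smul_secA_iff g hV G _ U' x).symm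
  have hW : img g (⊤ : (Wsch g V).Opens) = g ⁻¹ᵁ V := by simp [img, Wsch]
  let rs : ∀ {A B : Z.Opens}, B ≤ A → Γ(G, A) → Γ(G, B) := fun h => (G.presheaf.map (homOfLE h).op)
  have hnat : ∀ (n : ℕ) {A B : Z.Opens} (h : B ≤ A) (x : Γ(G, A)),
      (u n).app B (rs h x) =
        (Q n).presheaf.map (homOfLE h).op ((u n).app A x) := fun n A B h x =>
    PresheafOfModules.naturality_apply (u n).val (homOfLE h).op x
  refine ⟨c, fun k s hs => ?_, fun y hy k => ?_⟩
  · let s' : secA (affBase g hV) (G.restrict j) ⊤ := rs hW.le s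
    have h := hc1 (k + 1) s' fun i => by
      rw [show k + 1 + c = k + c + 1 by omega]
      have e1 : rs (img_le g (U i)) s =
          rs (Scheme.Hom.image_mono j (le_top : U i ≤ ⊤)) (rs hW.le s) := by
        simp only [rs]
        rw [← ConcreteCategory.comp_apply, ← Functor.map_comp]
        rfl
      have e2 : (u (k + c)).app (img g (U i)) (rs (img_le g (U i)) s) = 0 :=
        (hnat (k + c) (img_le g (U i)) s).trans
          ((congrArg (fun z => (Q (k + c)).presheaf.map (homOfLE (img_le g (U i))).op z) hs).trans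
            (map_zero ((Q (k + c)).presheaf.map (homOfLE (img_le g (U i))).op).hom))
      exact (hzero (U i) (hUaff i) (k + c) (rs (Scheme.Hom.image_mono j (le_top : U i ≤ ⊤)) (rs hW.le s))).1
        (e1 ▸ e2)
    replace h := (mem_smul_secA_iff g hV G (𝓘.ideal ⟨V, hV⟩ ^ (k + 1)) ⊤ (rs hW.le s)).1 h
    rw [hpow]
    let φ := (g.appLE V (img g ⊤) (img_le g ⊤)).hom
    let N := (Scheme.Modules.pushforward g).obj G
    let S : Submodule Γ(X, V) Γ(N, V) := 𝓘.ideal ⟨V, hV⟩ ^ (k + 1) • ⊤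
    show (show Γ(N, V) from s) ∈ S
    let Q : Γ(G, img g (⊤ : (Wsch g V).Opens)) → Prop := fun x => (show Γ(N, V) from rs hW.ge x) ∈ S
    have hs2 : rs hW.ge (rs hW.le s) = s :=
      ((ConcreteCategory.congr_hom (G.presheaf.map_comp _ _) s).symm.trans
        (ConcreteCategory.congr_hom (G.presheaf.map_id _) s))
    rw [← hs2]
    show Q (rs hW.le s)
    letI : Module Γ(X, V) Γ(G, img g (⊤ : (Wsch g V).Opens)) := Module.compHom _ φ
    have h2 := (mem_map_smul_top_iff (R := Γ(X, V)) φ (M := Γ(G, img g (⊤ : (Wsch g V).Opens)))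
      (fun _ _ => rfl) _ _).1 h
    refine Submodule.smul_induction_on (p := Q) h2 (fun b hb x _ => ?_) (fun x x' hx hx' => ?_)
    · show (show Γ(N, V) from rs hW.ge (φ b • x)) ∈ S
      have e : rs hW.ge (φ b • x) = g.app V b • rs hW.ge x := by
        refine (Scheme.Modules.map_smul G (homOfLE hW.ge) _ _).trans ?_
        congr 1
        refine (ConcreteCategory.congr_hom (g.appLE_map (img_le g ⊤) (homOfLE hW.ge).op) b).trans ?_
        rw [Scheme.Hom.app_eq_appLE]
      rw [e]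
      exact Submodule.smul_mem_smul (N := (⊤ : Submodule Γ(X, V) Γ(N, V)))
        (n := (show Γ(N, V) from rs hW.ge x)) hb trivial
    · show (show Γ(N, V) from rs hW.ge (x + x')) ∈ S
      rw [show rs hW.ge (x + x') = rs hW.ge x + rs hW.ge x' from map_add (G.presheaf.map (homOfLE hW.ge).op).hom x x']
      exact S.add_mem hx hx'
  · let K := k + c
    have hlift : ∀ i, ∃ s : Γ(G, img g (U i)), (u K).app (img g (U i)) s =
        (Q K).presheaf.map (homOfLE (img_le g (U i))).op (y K) := fun i =>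
      (hu K ⟨_, (hUaff i).image_of_isOpenImmersion j⟩).1 _
    choose s hs using hlift
    obtain ⟨m, hm⟩ := hc2 (k + 1) s fun i l => by
      rw [show k + 1 + c = K + 1 by omega]
      have haff2 : IsAffineOpen (U i ⊓ U l) := by
        have h := haff 1 ![i, l]
        rwa [show ⨅ r, U (![i, l] r) = U i ⊓ U l from le_antisymm
          (le_inf (iInf_le (fun r => U (![i, l] r)) 0) (iInf_le (fun r => U (![i, l] r)) 1))
          (le_iInf fun r => by fin_cases r <;> simp)] at h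
      refine (hzero _ haff2 K _).1 ?_
      refine ((map_sub ((u K).app _).hom _ _).trans (sub_eq_zero.2 ?_))
      refine ((hnat K (Scheme.Hom.image_mono j inf_le_right) (s l)).trans ?_).trans
        (hnat K (Scheme.Hom.image_mono j inf_le_left) (s i)).symm
      rw [hs, hs, ← ConcreteCategory.comp_apply, ← Functor.map_comp, ← ConcreteCategory.comp_apply,
        ← Functor.map_comp]
      rfl
    refine ⟨rs hW.ge m, ?_⟩
    have hcover : g ⁻¹ᵁ V ≤ ⨆ i, img g (U i) := fun x hx => by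
      obtain ⟨i, hi⟩ := Opens.mem_iSup.1 (hcov.ge (show (⟨x, hx⟩ : Wsch g V) ∈ (⊤ : (Wsch g V).Opens) from trivial))
      exact Opens.mem_iSup.2 ⟨i, ⟨⟨x, hx⟩, hi, rfl⟩⟩
    refine TopCat.Sheaf.eq_of_locally_eq' (show TopCat.Sheaf AddCommGrpCat.{u} Z from Coh.toAb (Q k))
      (fun i => img g (U i)) (g ⁻¹ᵁ V) (fun i => homOfLE (img_le g (U i))) hcover _ _ fun i => ?_
    show (Q k).presheaf.map (homOfLE (img_le g (U i))).op _ =
      (Q k).presheaf.map (homOfLE (img_le g (U i))).op _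
    rw [← hnat]
    have h0 : (u k).app (img g (U i)) (rs (img_le g (U i)) (rs hW.ge m)) =
        (u k).app (img g (U i)) (s i) := by
      refine sub_eq_zero.1 ((map_sub ((u k).app _).hom _ _).symm.trans
        ((hzero (U i) (hUaff i) k _).2 ?_))
      have h := hm i
      rwa [show rs (img_le g (U i)) (rs hW.ge m) = rs (Scheme.Hom.image_mono j le_top) m from
        (ConcreteCategory.congr_hom (G.presheaf.map_comp _ _) m).symm]
    rw [h0]
    refine app_eq_of_app_eq Q u t hut (img g (U i))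
      (fun n => (Q n).presheaf.map (homOfLE (img_le g (U i))).op (y n)) (fun n => ?_) (s i) k c (hs i)
    exact (PresheafOfModules.naturality_apply (t n).val (homOfLE (img_le g (U i))).op (y (n + 1))).trans
      (congrArg _ (hy n))

include hV hG in
/-- Formal functions in degree zero over an affine open, for the levels of the completion. -/
theorem exists_push_bound :
    ∃ c : ℕ, (∀ k (s : Γ(G, g ⁻¹ᵁ V)), (levUnit (𝓘.comap g) G (k + c)).app (g ⁻¹ᵁ V) s = 0 →
        (show Γ((Scheme.Modules.pushforward g).obj G, V) from s) ∈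
          ((𝓘 ^ (k + 1)).ideal ⟨V, hV⟩) • (⊤ : Submodule Γ(X, V) Γ((Scheme.Modules.pushforward g).obj G, V))) ∧
      ∀ (y : ∀ k, Γ(lev (𝓘.comap g) G k, g ⁻¹ᵁ V)),
        (∀ k, (levT (𝓘.comap g) G k).app (g ⁻¹ᵁ V) (y (k + 1)) = y k) →
        ∀ k, ∃ m : Γ(G, g ⁻¹ᵁ V), (levUnit (𝓘.comap g) G k).app (g ⁻¹ᵁ V) m = y k :=
  exists_push_bound_gen g hV 𝓘 G hG (lev (𝓘.comap g) G) (levUnit (𝓘.comap g) G) (levT (𝓘.comap g) G)
    (levUnit_levT (𝓘.comap g) G) (levUnit_affine (𝓘.comap g) G hG)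

end Main

end GrothLib.FPush7
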