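import Groth.Agent.Lib.FPush7.PushGen
import Groth.Agent.Lib.FPush7.PushSections
import Groth.Agent.Lib.FMod7.ComplExact
import Groth.Agent.Lib.FormalExist7.PushTwist
import Groth.Agent.Lib.FormalExist7.OpenPush
import Groth.Agent.S3854

/-!
# Completion commutes with proper direct images of coherent modules
-/

set_option autoImplicit false
set_option linter.style.haveILetI false
set_option linter.unusedSectionVars false
set_option maxHeartbeats 800000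
universe u

open CategoryTheory CategoryTheory.Limits AlgebraicGeometry TopologicalSpace Opposite

noncomputable section

namespace GrothLib.FPush7

open GrothLib.FMod7

theorem sections_of_factor {𝔛 : FSch.Sys.{u}} (h : 𝔛.IsFormal) {Y : Scheme.{u}} (p : ∀ n, 𝔛.X n ⟶ Y)
    (hp : ∀ n, 𝔛.ι n ≫ p (n + 1) = p n) (𝔐 : FSch.ModSys 𝔛) (F : Y.Modules)
    (a : (show ModSite.Mod Y.sheaf from F) ⟶ (FSch.toSchemeMor 𝔛 h p hp).push.obj (𝔐.realMod h)) (k : ℕ)
    (η : F ⟶ (Scheme.Modules.pushforward (p k)).obj (𝔐.F k))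
    (ha : a ≫ (FSch.toSchemeMor 𝔛 h p hp).push.map (FSch.realProj 𝔛 h 𝔐.F 𝔐.toPush k) =
      η ≫ (FSch.schPushCompare 𝔛 h p hp k).app _) (V : Y.Opens) (m : Γ(F, V)) :
    mProj h (p 0 ⁻¹ᵁ V) 𝔐 k ((a.val.app (op V)).hom m) =
      (𝔐.F k).presheaf.map (homOfLE (FSch.lvU_p 𝔛 h p hp k V).ge).op (η.app V m) :=
  congrArg (fun φ : (show ModSite.Mod Y.sheaf from F) ⟶ (FSch.toSchemeMor 𝔛 h p hp).push.obj
    ((FSch.levelMor 𝔛 h k).push.obj (𝔐.F k)) => (φ.val.app (op V)).hom m) ha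

section Gen

variable {𝔛 ℨ : FSch.Sys.{u}} (h𝔛 : 𝔛.IsFormal) (hℨ : ℨ.IsFormal) {X Z : Scheme.{u}}
  (p : ∀ n, 𝔛.X n ⟶ X) (hp : ∀ n, 𝔛.ι n ≫ p (n + 1) = p n)
  (q : ∀ n, ℨ.X n ⟶ Z) (hq : ∀ n, ℨ.ι n ≫ q (n + 1) = q n)
  (g : Z ⟶ X) (f : ℨ ⟶ 𝔛) (hw : ∀ n, (f : FSch.Hom ℨ 𝔛).app n ≫ p n = q n ≫ g)
  {𝔐 : FSch.ModSys 𝔛} {𝔑 : FSch.ModSys ℨ}

theorem bijective_gen (hN : 𝔛.IsLocNoethFormal) (h𝔐 : 𝔐.IsCoh) (G : Z.Modules)
    (uX : ∀ k, (Scheme.Modules.pushforward g).obj G ⟶ (Scheme.Modules.pushforward (p k)).obj (𝔐.F k))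
    (uZ : ∀ k, G ⟶ (Scheme.Modules.pushforward (q k)).obj (𝔑.F k))
    (hXt : ∀ k, uX (k + 1) ≫ (Scheme.Modules.pushforward (p (k + 1))).map (𝔐.toPush k) ≫
          (Scheme.Modules.pushforwardComp (𝔛.ι k) (p (k + 1))).hom.app _ ≫
            (Scheme.Modules.pushforwardCongr (hp k)).hom.app _ = uX k)
    (hZt : ∀ k, uZ (k + 1) ≫ (Scheme.Modules.pushforward (q (k + 1))).map (𝔑.toPush k) ≫
          (Scheme.Modules.pushforwardComp (ℨ.ι k) (q (k + 1))).hom.app _ ≫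
            (Scheme.Modules.pushforwardCongr (hq k)).hom.app _ = uZ k)
    (a : (show ModSite.Mod X.sheaf from (Scheme.Modules.pushforward g).obj G) ⟶
      (FSch.toSchemeMor 𝔛 h𝔛 p hp).push.obj (𝔐.realMod h𝔛))
    (ha : ∀ k, a ≫ (FSch.toSchemeMor 𝔛 h𝔛 p hp).push.map (FSch.realProj 𝔛 h𝔛 𝔐.F 𝔐.toPush k) =
      uX k ≫ (FSch.schPushCompare 𝔛 h𝔛 p hp k).app _)
    (b : (show ModSite.Mod Z.sheaf from G) ⟶ (FSch.toSchemeMor ℨ hℨ q hq).push.obj (𝔑.realMod hℨ))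
    (hb : ∀ k, b ≫ (FSch.toSchemeMor ℨ hℨ q hq).push.map (FSch.realProj ℨ hℨ 𝔑.F 𝔑.toPush k) =
      uZ k ≫ (FSch.schPushCompare ℨ hℨ q hq k).app _)
    (ψ : 𝔐.realMod h𝔛 ⟶ (FSch.homMor f hℨ h𝔛).push.obj (𝔑.realMod hℨ))
    (hψ : a ≫ (FSch.toSchemeMor 𝔛 h𝔛 p hp).push.map ψ =
      (ModSite.RMor.ofScheme g).push.map b ≫ swap h𝔛 hℨ p hp q hq g f hw (𝔑.realMod hℨ))
    (V : X.Opens) (hV : IsAffineOpen (p 0 ⁻¹ᵁ V))
    (hXs : ∀ k, Function.Surjective ((uX k).app V))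
    (c : ℕ) (hker : ∀ k (s : Γ(G, g ⁻¹ᵁ V)), (uZ (k + c)).app (g ⁻¹ᵁ V) s = 0 → (uX k).app V s = 0)
    (hlift : ∀ y : (∀ k, Γ((Scheme.Modules.pushforward (q k)).obj (𝔑.F k), g ⁻¹ᵁ V)),
      (∀ k, ((Scheme.Modules.pushforward (q (k + 1))).map (𝔑.toPush k) ≫
          (Scheme.Modules.pushforwardComp (ℨ.ι k) (q (k + 1))).hom.app _ ≫
            (Scheme.Modules.pushforwardCongr (hq k)).hom.app _).app (g ⁻¹ᵁ V) (y (k + 1)) = y k) →
      ∀ k, ∃ s, (uZ k).app (g ⁻¹ᵁ V) s = y k) :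
    Function.Bijective (ψ.val.app (op (p 0 ⁻¹ᵁ V))).hom := by
  refine exists_bijective_data h𝔛 hℨ p hp q hq g f hw ψ hN h𝔐 ((Scheme.Modules.pushforward g).obj G) G V hV
    (fun k m => (uX k).app V m) (fun k m => (uZ k).app (g ⁻¹ᵁ V) m)
    (fun m => m) (fun m => ⟨m, rfl⟩) (fun m => (a.val.app (op V)).hom m)
    (fun k m => sections_of_factor h𝔛 p hp 𝔐 _ a k _ (ha k) V m)
    (fun k m => ?_) hXs
    (fun k m => congrArg (fun φ : (Scheme.Modules.pushforward g).obj G ⟶ _ => φ.app V m) (hXt k))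
    c (fun k m m' hm => ?_) hlift
    (fun k s => congrArg (fun φ : G ⟶ _ => φ.app (g ⁻¹ᵁ V) s) (hZt k)) fun k => ⟨0, map_zero _, map_zero _⟩
  · refine Eq.trans ?_ (sections_of_factor hℨ q hq 𝔑 G b k _ (hb k) (g ⁻¹ᵁ V) m)
    refine congrArg _ ((congrArg (toSrc hℨ p q g f hw V)
      (congrArg (fun φ : (show ModSite.Mod X.sheaf from (Scheme.Modules.pushforward g).obj G) ⟶
        (FSch.toSchemeMor 𝔛 h𝔛 p hp).push.obj ((FSch.homMor f hℨ h𝔛).push.obj (𝔑.realMod hℨ)) =>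
          (φ.val.app (op V)).hom m) hψ)).trans ?_)
    let R := 𝔑.realMod hℨ
    exact (ConcreteCategory.congr_hom (R.val.presheaf.map_comp
      (homOfLE (preimage_eq p q g f hw V).le).op (homOfLE (preimage_eq p q g f hw V).ge).op)
        ((b.val.app (op (g ⁻¹ᵁ V))).hom m)).symm.trans
      (ConcreteCategory.congr_hom (R.val.presheaf.map_id _) _)
  · exact sub_eq_zero.1 ((map_sub ((uX k).app V).hom m m').symm.trans
      (hker k _ ((map_sub ((uZ (k + c)).app (g ⁻¹ᵁ V)).hom m m').trans (sub_eq_zero.2 hm))))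

end Gen

theorem isIso_of_bijective_nhds {T : TopCat.{u}} {O : Sheaf (Opens.grothendieckTopology T) CommRingCat.{u}}
    {M N : ModSite.Mod O} (φ : M ⟶ N)
    (h : ∀ (U : Opens T) (x : T), x ∈ U → ∃ W : Opens T, W ≤ U ∧ x ∈ W ∧ Function.Bijective (φ.val.app (op W)).hom) :
    IsIso φ := by
  haveI : Sheaf.IsLocallySurjective ((SheafOfModules.toSheaf _).map φ) := by
    constructor
    intro U z y hy
    obtain ⟨W, hWU, hyW, hb⟩ := h U y hy
    obtain ⟨x, hx⟩ := hb.2 (N.val.map (homOfLE hWU).op z)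
    exact ⟨W, homOfLE hWU, ⟨x, hx⟩, hyW⟩
  haveI : Epi φ := (SheafOfModules.toSheaf _).epi_of_epi_map inferInstance
  haveI : Mono φ := Preadditive.mono_of_cancel_zero _ fun {P} u hu => by
    refine SheafOfModules.hom_ext (PresheafOfModules.hom_ext fun U => ModuleCat.hom_ext (LinearMap.ext fun z => ?_))
    refine sect_ext M _ _ fun y hy => ?_
    obtain ⟨W, hWU, hyW, hb⟩ := h U.unop y hy
    refine ⟨W, hWU, hyW, hb.1 ?_⟩
    have e1 := congrArg (fun t : P ⟶ N => N.val.map (homOfLE hWU).op ((t.val.app U).hom z)) hu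
    refine ((PresheafOfModules.naturality_apply φ.val (homOfLE hWU).op ((u.val.app U).hom z)).trans e1).trans ?_
    refine Eq.trans ?_ (PresheafOfModules.naturality_apply φ.val (homOfLE hWU).op
      (((0 : P ⟶ M).val.app U).hom z)).symm
    exact congrArg (N.val.map (homOfLE hWU).op) (map_zero (φ.val.app U).hom).symm
  exact isIso_of_mono_of_epi φ

section Main

variable {X Z : Scheme.{u}} [IsLocallyNoetherian X] (g : Z ⟶ X) [IsProper g] (𝓘 : X.IdealSheafData)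
  {𝓚 : Z.IdealSheafData} (hpc : FSch.PowCompat g 𝓚 𝓘)
  (hX : (FSch.completionAlong X 𝓘).IsFormal) (hZ : (FSch.completionAlong Z 𝓚).IsFormal)

theorem completionMap_toX (n : ℕ) :
    (FSch.completionMap g 𝓚 𝓘 hpc : FSch.Hom _ _).app n ≫ FSch.completionToX X 𝓘 n =
      FSch.completionToX Z 𝓚 n ≫ g := by
  rw [FSch.completionMap_app]
  exact Scheme.IdealSheafData.subschemeMap_subschemeι _ _ _ _

variable [IsLocallyNoetherian Z]

/-- The map `g_* G ⟶ u_* ĝ_* Ĝ`. -/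
def pushAdj (G : Z.Modules) :
    (show ModSite.Mod X.sheaf from (Scheme.Modules.pushforward g).obj G) ⟶
      (complMor hX).push.obj ((FSch.pushF (FSch.completionMap g 𝓚 𝓘 hpc) hZ hX).obj ((FSch.complMod 𝓚 G).realMod hZ)) :=
  (ModSite.RMor.ofScheme g).push.map (comparisonAdj hZ G) ≫
    swap hX hZ (FSch.completionToX X 𝓘) (FSch.completionToX_comm X 𝓘) (FSch.completionToX Z 𝓚)
      (FSch.completionToX_comm Z 𝓚) g (FSch.completionMap g 𝓚 𝓘 hpc) (completionMap_toX g 𝓘 hpc)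
      ((FSch.complMod 𝓚 G).realMod hZ)

theorem exists_factor (N : X.Modules) (hN : IsIso (comparison hX N)) {T : FSch.ModF (FSch.completionAlong X 𝓘) hX}
    (β : (show ModSite.Mod X.sheaf from N) ⟶ (complMor hX).push.obj T) :
    ∃ ψ : (FSch.complMod 𝓘 N).realMod hX ⟶ T, comparisonAdj hX N ≫ (complMor hX).push.map ψ = β := by
  haveI := hN
  refine ⟨inv (comparison hX N) ≫ ((complMor hX).adj.homEquiv _ _).symm β, ?_⟩
  have h1 := (complMor hX).adj.homEquiv_naturality_right (comparison hX N)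
    (inv (comparison hX N) ≫ ((complMor hX).adj.homEquiv _ _).symm β)
  rw [IsIso.hom_inv_id_assoc, Equiv.apply_symm_apply] at h1
  refine Eq.trans ?_ h1.symm
  exact congrArg (· ≫ _) (((complMor hX).adj.homEquiv _ _).apply_symm_apply _).symm

/-- Completion commutes with proper direct images of coherent modules, by the canonical map. -/
theorem exists_pushF_iso (h𝓚 : 𝓚 = 𝓘.comap g) (G : Z.Modules) (hG : Coh.IsCoh G) :
    ∃ i : (FSch.complMod 𝓘 ((Scheme.Modules.pushforward g).obj G)).realMod hX ≅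
      (FSch.pushF (FSch.completionMap g 𝓚 𝓘 hpc) hZ hX).obj ((FSch.complMod 𝓚 G).realMod hZ),
      comparisonAdj hX ((Scheme.Modules.pushforward g).obj G) ≫ (complMor hX).push.map i.hom =
        pushAdj g 𝓘 hpc hX hZ G := by
  subst h𝓚
  let N := (Scheme.Modules.pushforward g).obj G
  have hNc : Coh.IsCoh N := FormalExist7.isCoh_pushforward g hG
  have hN := Groth.Agent.S3854.result X 𝓘
  have h𝔐 : (FSch.complMod 𝓘 N).IsCoh := fun k => FormalExist7.isCoh_pullbackMod _ hNc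
  obtain ⟨ψ, hψ⟩ := exists_factor 𝓘 hX N (isIso_comparison hX N hN hNc h𝔐) (pushAdj g 𝓘 hpc hX hZ G)
  haveI : IsIso ψ := by
    refine isIso_of_bijective_nhds ψ fun U x hx => ?_
    obtain ⟨V, hV, -, hxV, hVU⟩ := exists_affine_below (𝓘 := 𝓘) hx (W := ⊤) trivial
    refine ⟨onCompl V, hVU, hxV, ?_⟩
    haveI : IsClosedImmersion (FSch.completionToX X 𝓘 0) :=
      inferInstanceAs (IsClosedImmersion ((𝓘 ^ (0 + 1)).subschemeι))
    obtain ⟨c, hc1, hc2⟩ := exists_push_bound g hV 𝓘 G hG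
    exact bijective_gen hX hZ (FSch.completionToX X 𝓘) (FSch.completionToX_comm X 𝓘)
      (FSch.completionToX Z (𝓘.comap g)) (FSch.completionToX_comm Z _) g (FSch.completionMap g _ 𝓘 hpc)
      (completionMap_toX g 𝓘 hpc) hN h𝔐 G (levUnitM 𝓘 N) (levUnitM (𝓘.comap g) G)
      (levUnitM_trans 𝓘 N) (levUnitM_trans (𝓘.comap g) G)
      (comparisonAdj hX N) (comparisonAdj_proj hX N) (comparisonAdj hZ G) (comparisonAdj_proj hZ G)
      ψ hψ V (hV.preimage _) (fun k => (levUnit_affine 𝓘 N hNc k ⟨V, hV⟩).1) c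
      (fun k s hs => ((levUnit_affine 𝓘 N hNc k ⟨V, hV⟩).2 s).2 (hc1 k s hs)) fun y hy => hc2 y fun k => by
        rw [levT_def]
        exact hy k
  exact ⟨asIso ψ, hψ⟩

include hpc in
/-- Completion commutes with proper direct images of coherent modules. -/
theorem nonempty_pushF_iso (h𝓚 : 𝓚 = 𝓘.comap g) (G : Z.Modules) (hG : Coh.IsCoh G) :
    Nonempty ((FSch.complMod 𝓘 ((Scheme.Modules.pushforward g).obj G)).realMod hX ≅
      (FSch.pushF (FSch.completionMap g 𝓚 𝓘 hpc) hZ hX).obj ((FSch.complMod 𝓚 G).realMod hZ)) :=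
  ⟨(exists_pushF_iso g 𝓘 hpc hX hZ h𝓚 G hG).choose⟩

end Main

end GrothLib.FPush7
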