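import Groth.Agent.Lib.FormalFn.Main

/-!
# Formal functions in degree zero, on cochains
-/

set_option autoImplicit false
set_option linter.style.haveILetI false
set_option linter.unusedSectionVars false
set_option maxHeartbeats 800000
universe u

open CategoryTheory CategoryTheory.Limits AlgebraicGeometry Opposite TopologicalSpace

noncomputable section

namespace GrothLib.FPush7

open GrothLib.BCCoh GrothLib.FormalFn

variable {A : Type u} [CommRing A] {X : Scheme.{u}} [X.Over (Spec (CommRingCat.of A))]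

local notation "f₀" => X ↘ Spec (CommRingCat.of A)

theorem resA_resA (G : X.Modules) {V V' V'' : X.Opens} (h : V' ≤ V) (h' : V'' ≤ V') (x : secA f₀ G V) :
    resA f₀ G h' (resA f₀ G h x) = resA f₀ G (h'.trans h) x :=
  (ConcreteCategory.congr_hom ((Coh.toAb G).obj.map_comp (homOfLE h).op (homOfLE h').op) x).symm

theorem resA_self (G : X.Modules) {V : X.Opens} (h : V ≤ V) (x : secA f₀ G V) : resA f₀ G h x = x :=
  ConcreteCategory.congr_hom ((Coh.toAb G).obj.map_id (op V)) x

variable {ι : Type u} (U : ι → X.Opens)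

theorem W_le {n : ℕ} (a : Fin (n + 1) → ι) (l : Fin (n + 1)) : W U a ≤ U (a l) := by
  rw [W, Cech.obj_eq_iInf]
  exact iInf_le (fun k => U (a k)) l

theorem le_W_zero (a : Fin 1 → ι) : U (a 0) ≤ W U a := by
  rw [W, Cech.obj_eq_iInf]
  exact le_iInf fun k : Fin 1 => le_of_eq (by rw [Subsingleton.elim k 0])

theorem le_W_one (i j : ι) : U i ⊓ U j ≤ W U ![i, j] := by
  rw [W, Cech.obj_eq_iInf]
  refine le_iInf fun k => ?_
  fin_cases k
  · exact inf_le_left
  · exact inf_le_right

/-- The cochain of a family. -/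
def ofFam (G : X.Modules) (s : ∀ i, secA f₀ G (U i)) : (cx f₀ U G).X 0 :=
  fun a : Fin 1 → ι => resA f₀ G (W_le U a 0) (s (a 0))

/-- The family of a cochain. -/
def toFam (G : X.Modules) (z : (cx f₀ U G).X 0) (i : ι) : secA f₀ G (U i) :=
  resA f₀ G (le_W_zero U fun _ : Fin 1 => i) (z fun _ => i)

theorem d_zero_apply (G : X.Modules) (z : (cx f₀ U G).X 0) (a : Fin 2 → ι) :
    (cx f₀ U G).d 0 1 z a =
      resA f₀ G (W_le U a 1) (toFam U G z (a 1)) - resA f₀ G (W_le U a 0) (toFam U G z (a 0)) := by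
  have key : ∀ (k : Fin 2) (l : Fin 2) (hkl : ∀ r : Fin 1, k.succAbove r = l)
      (h' : W U a ≤ W U fun r : Fin 1 => a (k.succAbove r)),
      resA f₀ G h' (z fun r => a (k.succAbove r)) = resA f₀ G (W_le U a l) (toFam U G z (a l)) := by
    intro k l hkl
    rw [show (fun r : Fin 1 => a (k.succAbove r)) = fun _ => a l from funext fun r => congrArg a (hkl r)]
    intro h'
    rw [toFam, resA_resA]
  rw [cx_d]
  refine (cxd_apply f₀ U G 0 z a).trans ?_
  rw [Fin.sum_univ_two, key 0 1 (fun r => by fin_cases r; rfl) _, key 1 0 (fun r => by fin_cases r; rfl) _]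
  simp only [Fin.val_zero, Fin.val_one, pow_zero, pow_one, one_smul, neg_one_smul, sub_eq_add_neg]

theorem toFam_ofFam (G : X.Modules) (s : ∀ i, secA f₀ G (U i)) (i : ι) : toFam U G (ofFam U G s) i = s i :=
  (resA_resA G _ _ _).trans (resA_self G _ _)

theorem toFam_sub (G : X.Modules) (z w : (cx f₀ U G).X 0) (i : ι) :
    toFam U G (z - w) i = toFam U G z i - toFam U G w i :=
  map_sub (resA f₀ G (le_W_zero U fun _ : Fin 1 => i)) _ _

/-- Cocycles of degree zero glue. -/
theorem exists_glue (G : X.Modules) (hcov : iSup U = ⊤) (z : (cx f₀ U G).X 0)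
    (hz : (cx f₀ U G).d 0 1 z = 0) :
    ∃ m : secA f₀ G ⊤, ∀ i, resA f₀ G le_top m = toFam U G z i := by
  have hd : ∀ i j, resA f₀ G (inf_le_right : U i ⊓ U j ≤ U j) (toFam U G z j) =
      resA f₀ G (inf_le_left : U i ⊓ U j ≤ U i) (toFam U G z i) := fun i j => by
    have h := (d_zero_apply U G z ![i, j]).symm.trans (congrFun hz ![i, j])
    have h' := congrArg (resA f₀ G (le_W_one U i j)) (sub_eq_zero.1 h)
    rw [resA_resA, resA_resA] at h'
    exact h'
  obtain ⟨m, hm⟩ := TopCat.Sheaf.existsUnique_gluing' (show TopCat.Sheaf AddCommGrpCat.{u} X from Coh.toAb G) U ⊤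
    (fun i => homOfLE le_top) hcov.ge (fun i => toFam U G z i) (fun i j => (hd i j).symm)
  exact ⟨m, hm.1⟩

/-- Componentwise multiples. -/
theorem mem_smul_cx [Finite ι] (J : Ideal A) (G : X.Modules) (n : ℕ) (z : (cx f₀ U G).X n) :
    z ∈ J • (⊤ : Submodule A ((cx f₀ U G).X n)) ↔
      ∀ a, z a ∈ J • (⊤ : Submodule A (secA f₀ G (W U a))) := by
  classical
  haveI := Fintype.ofFinite (Fin (n + 1) → ι)
  constructor
  · intro hz a
    refine Submodule.smul_induction_on (p := fun w : (cx f₀ U G).X n => w a ∈ J • (⊤ : Submodule A (secA f₀ G (W U a)))) hz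
      (fun r hr x _ => Submodule.smul_mem_smul (show r ∈ J from hr) trivial) fun x y hx hy => Submodule.add_mem _ hx hy
  · intro h
    rw [show z = ∑ a, LinearMap.single A (fun a : Fin (n + 1) → ι => secA f₀ G (W U a)) a (z a) from
      (Finset.univ_sum_single z).symm]
    refine Submodule.sum_mem _ fun a _ => ?_
    refine Submodule.smul_induction_on (h a) (fun r hr x _ => ?_) fun x y hx hy => ?_
    · rw [map_smul]
      exact Submodule.smul_mem_smul hr trivial
    · rw [map_add]
      exact Submodule.add_mem _ hx hy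

theorem res_mem_smul (J : Ideal A) (G : X.Modules) {V V' : X.Opens} (h : V' ≤ V) {x : secA f₀ G V}
    (hx : x ∈ J • (⊤ : Submodule A (secA f₀ G V))) :
    resA f₀ G h x ∈ J • (⊤ : Submodule A (secA f₀ G V')) := by
  refine Submodule.smul_induction_on hx (fun r hr y _ => ?_) fun y z hy hz => ?_
  · rw [map_smul]
    exact Submodule.smul_mem_smul hr trivial
  · rw [map_add]
    exact Submodule.add_mem _ hy hz

variable [IsNoetherianRing A] (I : Ideal A) [IsProper (X ↘ Spec (CommRingCat.of A))] [Finite ι]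
  (hcov : iSup U = ⊤) (haff : ∀ (n : ℕ) (a : Fin (n + 1) → ι), IsAffineOpen (⨅ k, U (a k)))
  (G : X.Modules) (hG : Coh.IsCoh G)

include hcov haff hG in
/-- Global sections locally divisible by a high power are divisible; almost compatible local sections
are nearly a global section. -/
theorem exists_bound :
    ∃ c : ℕ, (∀ n (s : secA f₀ G ⊤), (∀ i, resA f₀ G le_top s ∈ I ^ (n + c) • (⊤ : Submodule A (secA f₀ G (U i)))) →
        s ∈ I ^ n • (⊤ : Submodule A (secA f₀ G ⊤))) ∧
      ∀ n (s : ∀ i, secA f₀ G (U i)),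
        (∀ i j, resA f₀ G (inf_le_right : U i ⊓ U j ≤ U j) (s j) - resA f₀ G (inf_le_left : U i ⊓ U j ≤ U i) (s i) ∈
          I ^ (n + c) • (⊤ : Submodule A (secA f₀ G (U i ⊓ U j)))) →
        ∃ m : secA f₀ G ⊤, ∀ i, resA f₀ G le_top m - s i ∈ I ^ n • (⊤ : Submodule A (secA f₀ G (U i))) := by
  have hnext : (ComplexShape.up ℕ).next 0 = 1 := CochainComplex.next ℕ 0
  obtain ⟨c₁, hc₁⟩ := exists_cyclesMul_le U I hcov haff 0 G hG
  obtain ⟨c₂, hc₂⟩ := exists_range_d_le U I hcov haff 0 G hG
  rw [hnext] at hc₂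
  refine ⟨max c₁ c₂, fun n s hs => ?_, fun n s hs => ?_⟩
  · let z : ZZ A U 0 G := ⟨ofFam U G fun i => resA f₀ G le_top s, by
      refine LinearMap.mem_ker.2 ?_
      show (cx f₀ U G).d 0 ((ComplexShape.up ℕ).next 0) _ = 0
      rw [hnext]
      refine funext fun a => (d_zero_apply U G _ a).trans ?_
      rw [toFam_ofFam, toFam_ofFam, resA_resA, resA_resA, sub_self]
      rfl⟩
    have hz : z ∈ cyclesMul A U 0 G (I ^ (n + c₁)) := (mem_smul_cx U _ G 0 _).2 fun a =>
      res_mem_smul _ G _ (Submodule.smul_mono_left (Ideal.pow_le_pow_right (by omega)) (hs (a 0)))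
    have hbd : bd A U 0 G (I ^ (n + c₁)) = ⊥ := by
      rw [eq_bot_iff]
      rintro w ⟨y, -, hy⟩
      refine (Submodule.mem_bot A).2 (Subtype.ext (hy.symm.trans ?_))
      have h0 : ((cx f₀ U G).sc 0).f = 0 := (cx f₀ U G).shape _ _ (by simp)
      rw [h0]
      rfl
    have h := hc₁ (n + c₁) (Nat.le_add_left _ _) hz
    rw [hbd, sup_bot_eq, Nat.add_sub_cancel] at h
    have hker : ∀ w : ZZ A U 0 G, (cx f₀ U G).d 0 1 w.1 = 0 := fun w => by
      rw [← hnext]
      exact w.2
    choose g hg using fun w : ZZ A U 0 G => exists_glue U G hcov w.1 (hker w)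
    have hinj : ∀ m m' : secA f₀ G ⊤, (∀ i, resA f₀ G le_top m = resA f₀ G (V' := U i) le_top m') → m = m' :=
      fun m m' hm => TopCat.Sheaf.eq_of_locally_eq' (show TopCat.Sheaf AddCommGrpCat.{u} X from Coh.toAb G) U ⊤
        (fun i => homOfLE le_top) hcov.ge m m' hm
    let Φ : ZZ A U 0 G →ₗ[A] secA f₀ G ⊤ :=
      { toFun := g
        map_add' := fun w w' => hinj _ _ fun i => by
          rw [map_add, hg, hg, hg, show (w + w').1 = w.1 + w'.1 from rfl]
          exact map_add (resA f₀ G (le_W_zero U fun _ : Fin 1 => i)) _ _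
        map_smul' := fun r w => hinj _ _ fun i => by
          rw [RingHom.id_apply, map_smul, hg, hg, show (r • w).1 = r • w.1 from rfl]
          exact map_smul (resA f₀ G (le_W_zero U fun _ : Fin 1 => i)) _ _ }
    rw [show s = Φ z from hinj _ _ fun i => ((hg z i).trans (toFam_ofFam U G (fun j => resA f₀ G le_top s) i)).symm]
    have h' := Submodule.mem_map_of_mem (f := Φ) h
    rw [Submodule.map_smul''] at h'
    exact Submodule.smul_mono le_rfl le_top h'
  · have hd : (cx f₀ U G).d 0 1 (ofFam U G s) ∈ I ^ (n + c₂) • (⊤ : Submodule A ((cx f₀ U G).X 1)) := by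
      refine (mem_smul_cx U _ G 1 _).2 fun a => ?_
      rw [d_zero_apply, toFam_ofFam, toFam_ofFam]
      have h := res_mem_smul _ G (le_inf (W_le U a 0) (W_le U a 1))
        (Submodule.smul_mono_left (Ideal.pow_le_pow_right (show n + c₂ ≤ n + max c₁ c₂ by omega)) (hs (a 0) (a 1)))
      rwa [map_sub, resA_resA, resA_resA] at h
    obtain ⟨y, hy, hyd⟩ := hc₂ (n + c₂) (Nat.le_add_left _ _) ⟨⟨ofFam U G s, rfl⟩, hd⟩
    rw [Nat.add_sub_cancel] at hy
    obtain ⟨m, hm⟩ := exists_glue U G hcov (ofFam U G s - y) (by rw [map_sub, hyd, sub_self])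
    refine ⟨m, fun i => ?_⟩
    rw [hm i, toFam_sub, toFam_ofFam, sub_sub_cancel_left]
    exact neg_mem (res_mem_smul _ G _ ((mem_smul_cx U _ G 0 y).1 hy fun _ => i))

end GrothLib.FPush7
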