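import Groth.Agent.Lib.FPush7.Square
import Groth.Agent.Lib.FMod7.Proj

/-!
# A criterion for a map to a direct image to be bijective over an open
-/

set_option autoImplicit false
set_option linter.style.haveILetI false
set_option linter.unusedSectionVars false
set_option maxHeartbeats 800000
universe u

open CategoryTheory CategoryTheory.Limits AlgebraicGeometry TopologicalSpace Opposite

noncomputable section

namespace GrothLib.FPush7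

open GrothLib.FMod7

theorem map_le_map_le {A : Scheme.{u}} (M : A.Modules) {P Q : A.Opens} (h : P ≤ Q) (h' : Q ≤ P) (x : Γ(M, P)) :
    M.presheaf.map (homOfLE h).op (M.presheaf.map (homOfLE h').op x) = x :=
  (ConcreteCategory.congr_hom (M.presheaf.map_comp (homOfLE h').op (homOfLE h).op) x).symm.trans
    (ConcreteCategory.congr_hom (M.presheaf.map_id _) x)

variable {𝔛 ℨ : FSch.Sys.{u}} (h𝔛 : 𝔛.IsFormal) (hℨ : ℨ.IsFormal) {X Z : Scheme.{u}}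
  (p : ∀ n, 𝔛.X n ⟶ X) (hp : ∀ n, 𝔛.ι n ≫ p (n + 1) = p n)
  (q : ∀ n, ℨ.X n ⟶ Z) (hq : ∀ n, ℨ.ι n ≫ q (n + 1) = q n)
  (g : Z ⟶ X) (f : ℨ ⟶ 𝔛) (hw : ∀ n, (f : FSch.Hom ℨ 𝔛).app n ≫ p n = q n ≫ g)
  {𝔐 : FSch.ModSys 𝔛} {𝔑 : FSch.ModSys ℨ}

/-- The restriction to the equal open on the source. -/
def toSrc (V : X.Opens) (x : Mods hℨ ((f : FSch.Hom ℨ 𝔛).app 0 ⁻¹ᵁ (p 0 ⁻¹ᵁ V)) 𝔑) :
    Mods hℨ (q 0 ⁻¹ᵁ (g ⁻¹ᵁ V)) 𝔑 :=
  (𝔑.realMod hℨ).val.map (homOfLE (preimage_eq p q g f hw V).ge).op x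

theorem toSrc_injective (V : X.Opens) : Function.Injective (toSrc hℨ p q g f hw V (𝔑 := 𝔑)) := fun x y e => by
  refine section_ext hℨ _ _ _ x y fun k => ?_
  have h := congrArg (sProj hℨ _ _ _ k) e
  replace h := (sProj_res hℨ 𝔑.F 𝔑.toPush (preimage_eq p q g f hw V).ge k x).symm.trans
    (h.trans (sProj_res hℨ 𝔑.F 𝔑.toPush (preimage_eq p q g f hw V).ge k y))
  haveI : IsIso ((𝔑.F k).presheaf.map (homOfLE ((Opens.map (ℨ.gInv hℨ k)).map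
      (homOfLE (preimage_eq p q g f hw V).ge)).le).op) :=
    (𝔑.F k).presheaf.map_isIso (eqToHom (congrArg (fun O => op ((Opens.map (ℨ.gInv hℨ k)).obj O)) (preimage_eq p q g f hw V)))
  exact (ConcreteCategory.bijective_of_isIso ((𝔑.F k).presheaf.map (homOfLE ((Opens.map (ℨ.gInv hℨ k)).map
    (homOfLE (preimage_eq p q g f hw V).ge)).le).op)).1 h

theorem exists_bijective_data (ψ : 𝔐.realMod h𝔛 ⟶ (FSch.homMor f hℨ h𝔛).push.obj (𝔑.realMod hℨ))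
    (hN : 𝔛.IsLocNoethFormal) (h𝔐 : 𝔐.IsCoh) (N : X.Modules) (G : Z.Modules) (V : X.Opens)
    (hV : IsAffineOpen (p 0 ⁻¹ᵁ V))
    (uX : ∀ k, Γ(N, V) → Γ(𝔐.F k, p k ⁻¹ᵁ V)) (uZ : ∀ k, Γ(G, g ⁻¹ᵁ V) → Γ(𝔑.F k, q k ⁻¹ᵁ (g ⁻¹ᵁ V)))
    (e : Γ(N, V) → Γ(G, g ⁻¹ᵁ V)) (he : Function.Surjective e)
    (a : Γ(N, V) → Mods h𝔛 (p 0 ⁻¹ᵁ V) 𝔐)
    (ha : ∀ k m, mProj h𝔛 (p 0 ⁻¹ᵁ V) 𝔐 k (a m) =
      (𝔐.F k).presheaf.map (homOfLE (FSch.lvU_p 𝔛 h𝔛 p hp k V).ge).op (uX k m))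
    (hψ : ∀ k m, mProj hℨ (q 0 ⁻¹ᵁ (g ⁻¹ᵁ V)) 𝔑 k (toSrc hℨ p q g f hw V ((ψ.val.app (op (p 0 ⁻¹ᵁ V))).hom (a m))) =
      (𝔑.F k).presheaf.map (homOfLE (FSch.lvU_p ℨ hℨ q hq k (g ⁻¹ᵁ V)).ge).op (uZ k (e m)))
    (hXs : ∀ k, Function.Surjective (uX k))
    (hXt : ∀ k m, ((Scheme.Modules.pushforward (p (k + 1))).map (𝔐.toPush k) ≫
          (Scheme.Modules.pushforwardComp (𝔛.ι k) (p (k + 1))).hom.app _ ≫
            (Scheme.Modules.pushforwardCongr (hp k)).hom.app _).app V (uX (k + 1) m) = uX k m)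
    (c : ℕ) (hker : ∀ k m m', uZ (k + c) (e m) = uZ (k + c) (e m') → uX k m = uX k m')
    (hlift : ∀ y : (∀ k, Γ(𝔑.F k, q k ⁻¹ᵁ (g ⁻¹ᵁ V))),
      (∀ k, ((Scheme.Modules.pushforward (q (k + 1))).map (𝔑.toPush k) ≫
          (Scheme.Modules.pushforwardComp (ℨ.ι k) (q (k + 1))).hom.app _ ≫
            (Scheme.Modules.pushforwardCongr (hq k)).hom.app _).app (g ⁻¹ᵁ V) (y (k + 1)) = y k) →
      ∀ k, ∃ s, uZ k s = y k)
    (hZt : ∀ k s, ((Scheme.Modules.pushforward (q (k + 1))).map (𝔑.toPush k) ≫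
          (Scheme.Modules.pushforwardComp (ℨ.ι k) (q (k + 1))).hom.app _ ≫
            (Scheme.Modules.pushforwardCongr (hq k)).hom.app _).app (g ⁻¹ᵁ V) (uZ (k + 1) s) = uZ k s)
    (h0 : ∀ k, ∃ m, uX k m = 0 ∧ uZ k (e m) = 0) :
    Function.Bijective (ψ.val.app (op (p 0 ⁻¹ᵁ V))).hom := by
  let W := p 0 ⁻¹ᵁ V
  let W' := q 0 ⁻¹ᵁ (g ⁻¹ᵁ V)
  let T : Mods h𝔛 W 𝔐 → Mods hℨ W' 𝔑 := fun x => toSrc hℨ p q g f hw V ((ψ.val.app (op W)).hom x)
  have hTsub : ∀ x x', T (x - x') = T x - T x' := fun x x' =>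
    (congrArg (fun z => toSrc hℨ p q g f hw V z) (map_sub (ψ.val.app (op W)).hom x x')).trans
      (map_sub ((𝔑.realMod hℨ).val.map (homOfLE (preimage_eq p q g f hw V).ge).op).hom _ _)
  have hTker : ∀ k x, mProj h𝔛 W 𝔐 k x = 0 → mProj hℨ W' 𝔑 k (T x) = 0 := fun k x hx => by
    refine Submodule.smul_induction_on (p := fun x => mProj hℨ W' 𝔑 k (T x) = 0)
      ((mProj_eq_zero_iff hN hV h𝔐 k x).1 hx) (fun r hr y _ => ?_) fun y y' hy hy' => ?_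
    · have hr' : proj 𝔛 h𝔛 W k r = 0 := (ker_proj (h := h𝔛) hN hV k).ge hr
      show sProj hℨ W' 𝔑.F 𝔑.toPush k (toSrc hℨ p q g f hw V ((ψ.val.app (op W)).hom (r • y))) = 0
      refine (sProj_res hℨ 𝔑.F 𝔑.toPush (preimage_eq p q g f hw V).ge k ((ψ.val.app (op W)).hom (r • y))).trans ?_
      refine (congrArg ((𝔑.F k).presheaf.map _) ?_).trans (map_zero _)
      refine (congrArg (sProj hℨ _ 𝔑.F 𝔑.toPush k) ((ψ.val.app (op W)).hom.map_smul r y)).trans ?_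
      refine (sProj_smul hℨ ((f : FSch.Hom ℨ 𝔛).app 0 ⁻¹ᵁ W) 𝔑.F 𝔑.toPush k
        ((FSch.Hom.sharp f hℨ h𝔛).hom.app (op W) r) ((ψ.val.app (op W)).hom y)).trans ?_
      have h1 : proj ℨ hℨ ((f : FSch.Hom ℨ 𝔛).app 0 ⁻¹ᵁ W) k ((FSch.Hom.sharp f hℨ h𝔛).hom.app (op W) r) = 0 := by
        refine (congrArg (fun φ : 𝔛.Osh h𝔛 ⟶ (TopCat.Sheaf.pushforward CommRingCat.{u}
          ((f : FSch.Hom ℨ 𝔛).app 0).base).obj (ℨ.levelObj hℨ k) => φ.hom.app (op W) r)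
            (FSch.Hom.sharp_proj f hℨ h𝔛 k)).trans ?_
        exact (congrArg (fun z => ((FSch.Hom.levelPush f hℨ h𝔛 k).hom.app (op W)).hom z) hr').trans
          (map_zero ((FSch.Hom.levelPush f hℨ h𝔛 k).hom.app (op W)).hom)
      rw [h1, zero_smul]
    · show sProj hℨ W' 𝔑.F 𝔑.toPush k (T (y + y')) = 0
      have e' : T (y + y') = T y + T y' :=
        (congrArg (fun z => toSrc hℨ p q g f hw V z) (map_add (ψ.val.app (op W)).hom y y')).trans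
          (map_add ((𝔑.realMod hℨ).val.map (homOfLE (preimage_eq p q g f hw V).ge).op).hom _ _)
      rw [e', sProj_add]
      exact (congrArg₂ (· + ·) hy hy').trans (add_zero _)
  have hTeq : ∀ k x m, mProj h𝔛 W 𝔐 k x = mProj h𝔛 W 𝔐 k (a m) →
      mProj hℨ W' 𝔑 k (T x) = (𝔑.F k).presheaf.map (homOfLE (FSch.lvU_p ℨ hℨ q hq k (g ⁻¹ᵁ V)).ge).op (uZ k (e m)) := by
    intro k x m hm
    rw [← hψ k m]
    let P : Mods hℨ W' 𝔑 →+ MSec hℨ W' 𝔑.F k := AddMonoidHom.mk' (mProj hℨ W' 𝔑 k) (sProj_add hℨ W' _ _ k)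
    let PX : Mods h𝔛 W 𝔐 →+ MSec h𝔛 W 𝔐.F k := AddMonoidHom.mk' (mProj h𝔛 W 𝔐 k) (sProj_add h𝔛 W _ _ k)
    refine sub_eq_zero.1 ((map_sub P (T x) (T (a m))).symm.trans ?_)
    rw [← hTsub]
    exact hTker k _ ((map_sub PX x (a m)).trans (sub_eq_zero.2 hm))
  have hX' : ∀ k x, ∃ m, mProj h𝔛 W 𝔐 k x = mProj h𝔛 W 𝔐 k (a m) := fun k x => by
    obtain ⟨m, hm⟩ := hXs k ((𝔐.F k).presheaf.map (homOfLE (FSch.lvU_p 𝔛 h𝔛 p hp k V).le).op (mProj h𝔛 W 𝔐 k x))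
    refine ⟨m, ?_⟩
    rw [ha, hm, map_le_map_le]
  have hT : Function.Bijective T := by
    refine ⟨fun x x' hxx => sub_eq_zero.1 (section_ext h𝔛 W _ _ (x - x') 0 fun k => ?_), fun y => ?_⟩
    · obtain ⟨m, hm⟩ := hX' (k + c) (x - x')
      obtain ⟨n, hn, hn'⟩ := h0 (k + c)
      have hd : T (x - x') = 0 := (hTsub x x').trans (sub_eq_zero.2 hxx)
      have h1 := (hTeq (k + c) (x - x') m hm).symm.trans ((congrArg (mProj hℨ W' 𝔑 (k + c)) hd).trans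
        (map_zero (AddMonoidHom.mk' (mProj hℨ W' 𝔑 (k + c)) (sProj_add hℨ W' _ _ (k + c)))))
      have h2 : uZ (k + c) (e m) = 0 := by
        have := congrArg ((𝔑.F (k + c)).presheaf.map (homOfLE (FSch.lvU_p ℨ hℨ q hq (k + c) (g ⁻¹ᵁ V)).le).op) h1
        rwa [map_le_map_le, map_zero] at this
      have h3 := hker k m n (h2.trans hn'.symm)
      have h4 : mProj h𝔛 W 𝔐 k (x - x') = mProj h𝔛 W 𝔐 k (a m) := by
        have h5 : ∀ d, mProj h𝔛 W 𝔐 (k + d) (x - x') = mProj h𝔛 W 𝔐 (k + d) (a m) →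
            mProj h𝔛 W 𝔐 k (x - x') = mProj h𝔛 W 𝔐 k (a m) := by
          intro d
          induction d with
          | zero => exact id
          | succ d ih =>
            intro hd'
            refine ih ?_
            show sProj h𝔛 W _ _ (k + d) _ = sProj h𝔛 W _ _ (k + d) _
            rw [← sTrans_sProj h𝔛 W 𝔐.F 𝔐.toPush (k + d) (x - x'), ← sTrans_sProj h𝔛 W 𝔐.F 𝔐.toPush (k + d) (a m)]
            exact congrArg _ hd'
        exact h5 c hm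
      rw [show sProj h𝔛 W 𝔐.F 𝔐.toPush k (x - x') = mProj h𝔛 W 𝔐 k (a m) from h4, ha, h3]
      have h6 : uX k n = 0 := by
        have h7 : ∀ d, uX (k + d) n = 0 → uX k n = 0 := by
          intro d
          induction d with
          | zero => exact id
          | succ d ih =>
            intro hd'
            refine ih ?_
            rw [← hXt (k + d) n, show uX (k + d + 1) n = 0 from hd']
            exact map_zero _
        exact h7 c hn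
      rw [h6]
      exact (map_zero _).trans
        (map_zero (AddMonoidHom.mk' (mProj h𝔛 W 𝔐 k) (sProj_add h𝔛 W 𝔐.F 𝔐.toPush k))).symm
    · let z : ∀ k, Γ(𝔑.F k, q k ⁻¹ᵁ (g ⁻¹ᵁ V)) := fun k =>
        (𝔑.F k).presheaf.map (homOfLE (FSch.lvU_p ℨ hℨ q hq k (g ⁻¹ᵁ V)).le).op (mProj hℨ W' 𝔑 k y)
      have hz : ∀ k, (𝔑.F k).presheaf.map (homOfLE (FSch.lvU_p ℨ hℨ q hq k (g ⁻¹ᵁ V)).ge).op (z k) = mProj hℨ W' 𝔑 k y :=
        fun k => map_le_map_le _ _ _ _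
      have hzt : ∀ k, ((Scheme.Modules.pushforward (q (k + 1))).map (𝔑.toPush k) ≫
          (Scheme.Modules.pushforwardComp (ℨ.ι k) (q (k + 1))).hom.app _ ≫
            (Scheme.Modules.pushforwardCongr (hq k)).hom.app _).app (g ⁻¹ᵁ V) (z (k + 1)) = z k := fun k => by
        have h := sTrans_res hℨ q hq 𝔑.F 𝔑.toPush k (g ⁻¹ᵁ V) (z (k + 1))
        rw [hz, show sTrans hℨ (q 0 ⁻¹ᵁ (g ⁻¹ᵁ V)) 𝔑.F 𝔑.toPush k (mProj hℨ W' 𝔑 (k + 1) y) = mProj hℨ W' 𝔑 k y from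
          sTrans_sProj hℨ W' 𝔑.F 𝔑.toPush k y] at h
        have h' := congrArg ((𝔑.F k).presheaf.map (homOfLE (FSch.lvU_p ℨ hℨ q hq k (g ⁻¹ᵁ V)).le).op) h
        exact (h'.trans (map_le_map_le _ _ _ _)).symm
      have hm' : ∀ k, ∃ m, uZ k (e m) = z k := fun k => by
        obtain ⟨s, hs⟩ := hlift z hzt k
        obtain ⟨m, rfl⟩ := he s
        exact ⟨m, hs⟩
      choose m hm using hm'
      have hdown : ∀ k d, uZ k (e (m (k + d))) = z k := by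
        intro k d
        have h7 : ∀ d' (s : Γ(G, g ⁻¹ᵁ V)), uZ (k + d') s = z (k + d') → uZ k s = z k := by
          intro d'
          induction d' with
          | zero => exact fun s hs => hs
          | succ d' ih =>
            intro s hs
            refine ih s ?_
            rw [← hZt (k + d') s, ← hzt (k + d'), show uZ (k + d' + 1) s = z (k + d' + 1) from hs]
        exact h7 d _ (hm (k + d))
      have hxs : ∀ k, sTrans h𝔛 W 𝔐.F 𝔐.toPush k (mProj h𝔛 W 𝔐 (k + 1) (a (m (k + 1 + c)))) =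
          mProj h𝔛 W 𝔐 k (a (m (k + c))) := fun k => by
        rw [sTrans_sProj]
        show mProj h𝔛 W 𝔐 k _ = _
        rw [ha, ha, hker k _ (m (k + c))]
        rw [hm (k + c), show k + 1 + c = k + c + 1 by omega]
        exact hdown (k + c) 1
      obtain ⟨x, hx⟩ := exists_section h𝔛 W 𝔐.F 𝔐.toPush (fun k => mProj h𝔛 W 𝔐 k (a (m (k + c)))) hxs
      refine ⟨x, section_ext hℨ W' _ _ (T x) y fun k => ?_⟩
      refine (hTeq k x (m (k + c)) (hx k)).trans ?_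
      rw [hdown k c]
      exact hz k
  exact ⟨fun x x' hxx => hT.1 (congrArg (toSrc hℨ p q g f hw V) hxx),
    fun y => (hT.2 (toSrc hℨ p q g f hw V y)).imp fun x hx => toSrc_injective hℨ p q g f hw V hx⟩

end GrothLib.FPush7
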