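import Groth.Agent.Lib.FPush7.PushCompl
import Groth.Prelude.Def_FSch6

/-!
# The base-change map of completions of a proper morphism
-/

set_option autoImplicit false
set_option linter.style.haveILetI false
set_option linter.unusedSectionVars false
set_option maxHeartbeats 800000
universe u

open CategoryTheory CategoryTheory.Limits AlgebraicGeometry TopologicalSpace Opposite

noncomputable section

namespace GrothLib.FPush7

open GrothLib.FMod7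

theorem isIso_of_transpose {C D E : Type*} [Category C] [Category D] [Category E] {L : C ⥤ D} {R : D ⥤ C}
    (adj : L ⊣ R) {W : E ⥤ C} {V : E ⥤ D} (sw : W ⟶ V ⋙ R) {x : C} {K : D} {M M' : E} (c : L.obj x ⟶ K) [IsIso c]
    (i : K ≅ V.obj M) (φ : M ⟶ M') [IsIso (V.map φ)] (w : x ⟶ W.obj M) (b : L.obj x ⟶ V.obj M')
    (hi : adj.homEquiv _ _ c ≫ R.map i.hom = w ≫ sw.app M)
    (hb : adj.homEquiv _ _ b = (w ≫ W.map φ) ≫ sw.app M') : IsIso b := by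
  have : b = c ≫ i.hom ≫ V.map φ := by
    apply (adj.homEquiv _ _).injective
    rw [hb, adj.homEquiv_naturality_right, R.map_comp, ← Category.assoc (adj.homEquiv _ _ c), hi, Category.assoc,
      Category.assoc, sw.naturality]
    rfl
  rw [this]
  infer_instance

/-- The comparison of the composite direct images is the canonical one. -/
theorem schPushSq_app {𝔛 ℨ : FSch.Sys.{u}} (h𝔛 : 𝔛.IsFormal) (hℨ : ℨ.IsFormal) {X Z : Scheme.{u}}
    (p : ∀ n, 𝔛.X n ⟶ X) (hp : ∀ n, 𝔛.ι n ≫ p (n + 1) = p n)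
    (q : ∀ n, ℨ.X n ⟶ Z) (hq : ∀ n, ℨ.ι n ≫ q (n + 1) = q n)
    (g : Z ⟶ X) (f : ℨ ⟶ 𝔛) (hw : ∀ n, (f : FSch.Hom ℨ 𝔛).app n ≫ p n = q n ≫ g)
    (hsq : ∀ n, q n ≫ g = (f : FSch.Hom ℨ 𝔛).app n ≫ p n) (F : FSch.ModF ℨ hℨ) :
    (FSch.schPushSq f hℨ h𝔛 g q hq p hp hsq).hom.app F = swap h𝔛 hℨ p hp q hq g f hw F := by
  refine SheafOfModules.hom_ext (PresheafOfModules.hom_ext fun U => ModuleCat.hom_ext (LinearMap.ext fun m => ?_))
  rfl

/-- The comparison of the composite direct images, as a natural transformation. -/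
def swapNatTrans {𝔛 ℨ : FSch.Sys.{u}} (h𝔛 : 𝔛.IsFormal) (hℨ : ℨ.IsFormal) {X Z : Scheme.{u}}
    (p : ∀ n, 𝔛.X n ⟶ X) (hp : ∀ n, 𝔛.ι n ≫ p (n + 1) = p n)
    (q : ∀ n, ℨ.X n ⟶ Z) (hq : ∀ n, ℨ.ι n ≫ q (n + 1) = q n)
    (g : Z ⟶ X) (f : ℨ ⟶ 𝔛) (hw : ∀ n, (f : FSch.Hom ℨ 𝔛).app n ≫ p n = q n ≫ g) :
    (FSch.toSchemeMor ℨ hℨ q hq).push ⋙ (ModSite.RMor.ofScheme g).push ⟶
      FSch.pushF f hℨ h𝔛 ⋙ (FSch.toSchemeMor 𝔛 h𝔛 p hp).push where
  app F := swap h𝔛 hℨ p hp q hq g f hw F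
  naturality M N φ := by
    refine SheafOfModules.hom_ext (PresheafOfModules.hom_ext fun U => ModuleCat.hom_ext (LinearMap.ext fun m => ?_))
    exact (PresheafOfModules.naturality_apply φ.val (homOfLE (preimage_eq p q g f hw U.unop).le).op m).symm

theorem unit_eq_of_inv {C D : Type*} [Category C] [Category D] {L : C ⥤ D} {R : D ⥤ C} (adj : L ⊣ R) {x : C} {K : D}
    (c : L.obj x ⟶ K) [IsIso c] : adj.homEquiv _ _ c ≫ R.map (inv c) = adj.unit.app x := by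
  rw [← adj.homEquiv_naturality_right, IsIso.hom_inv_id, adj.homEquiv_id]

theorem isIso_schBcMap_gen {𝔛 ℨ : FSch.Sys.{u}} (h𝔛 : 𝔛.IsFormal) (hℨ : ℨ.IsFormal) {X Z : Scheme.{u}}
    (p : ∀ n, 𝔛.X n ⟶ X) (hp : ∀ n, 𝔛.ι n ≫ p (n + 1) = p n)
    (q : ∀ n, ℨ.X n ⟶ Z) (hq : ∀ n, ℨ.ι n ≫ q (n + 1) = q n)
    (g : Z ⟶ X) (f : ℨ ⟶ 𝔛) (hw : ∀ n, (f : FSch.Hom ℨ 𝔛).app n ≫ p n = q n ≫ g)
    (hsq : ∀ n, q n ≫ g = (f : FSch.Hom ℨ 𝔛).app n ≫ p n) (F : Z.Modules)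
    {M : FSch.ModF ℨ hℨ} (cF : (FSch.toSchemeMor ℨ hℨ q hq).pull.obj F ⟶ M) [IsIso cF]
    (aF : (show ModSite.Mod Z.sheaf from F) ⟶ (FSch.toSchemeMor ℨ hℨ q hq).push.obj M)
    (haF : (FSch.toSchemeMor ℨ hℨ q hq).adj.homEquiv _ _ cF = aF) {K : FSch.ModF 𝔛 h𝔛}
    (c : (FSch.toSchemeMor 𝔛 h𝔛 p hp).pull.obj ((Scheme.Modules.pushforward g).obj F) ⟶ K) [IsIso c]
    (aN : (show ModSite.Mod X.sheaf from (Scheme.Modules.pushforward g).obj F) ⟶
      (FSch.toSchemeMor 𝔛 h𝔛 p hp).push.obj K)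
    (haN : (FSch.toSchemeMor 𝔛 h𝔛 p hp).adj.homEquiv _ _ c = aN)
    (i : K ≅ (FSch.pushF f hℨ h𝔛).obj M)
    (hi : aN ≫ (FSch.toSchemeMor 𝔛 h𝔛 p hp).push.map i.hom =
      (ModSite.RMor.ofScheme g).push.map aF ≫ swap h𝔛 hℨ p hp q hq g f hw M) :
    IsIso (FSch.schBcMap f hℨ h𝔛 g q hq p hp hsq F) := by
  have hF' : aF ≫ (FSch.toSchemeMor ℨ hℨ q hq).push.map (inv cF) = (FSch.toSchemeMor ℨ hℨ q hq).adj.unit.app F :=
    (congrArg (· ≫ _) haF).symm.trans (unit_eq_of_inv (FSch.toSchemeMor ℨ hℨ q hq).adj cF)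
  refine isIso_of_transpose (FSch.toSchemeMor 𝔛 h𝔛 p hp).adj (swapNatTrans h𝔛 hℨ p hp q hq g f hw)
    c i (inv cF) ((ModSite.RMor.ofScheme g).push.map aF) _ ((congrArg (· ≫ _) haN).trans hi) ?_
  refine ((ModSite.RMor.bcMap_transpose _ F).trans
    (congrArg₂ (fun a b => a ≫ b) (congrArg (ModSite.RMor.ofScheme g).push.map hF'.symm)
      (schPushSq_app h𝔛 hℨ p hp q hq g f hw hsq _))).trans ?_
  exact congrArg (· ≫ _) ((ModSite.RMor.ofScheme g).push.map_comp _ _)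

variable {X Y : Scheme.{u}} [IsLocallyNoetherian X] [IsLocallyNoetherian Y] (f : X ⟶ Y) [IsProper f]
  (𝓘 : Y.IdealSheafData) {𝓚 : X.IdealSheafData} (hpc : FSch.PowCompat f 𝓚 𝓘)
  (hX : (FSch.completionAlong X 𝓚).IsFormal) (hY : (FSch.completionAlong Y 𝓘).IsFormal)

/-- The base-change map of a proper morphism is an isomorphism on coherent modules. -/
theorem isIso_schBcMap (h𝓚 : 𝓚 = 𝓘.comap f) (F : X.Modules) (hF : Coh.IsCoh F) :
    IsIso (FSch.schBcMap (FSch.completionMap f 𝓚 𝓘 hpc) hX hY f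
      (FSch.completionToX X 𝓚) (FSch.completionToX_comm X 𝓚)
      (FSch.completionToX Y 𝓘) (FSch.completionToX_comm Y 𝓘)
      (FSch.completionMap_sq f 𝓚 𝓘 hpc) F) := by
  obtain ⟨i, hi⟩ := exists_pushF_iso f 𝓘 hpc hY hX h𝓚 F hF
  have hN := FormalExist7.isCoh_pushforward f hF
  exact @isIso_schBcMap_gen _ _ hY hX _ _ (FSch.completionToX Y 𝓘) (FSch.completionToX_comm Y 𝓘)
    (FSch.completionToX X 𝓚) (FSch.completionToX_comm X 𝓚) f (FSch.completionMap f 𝓚 𝓘 hpc) (completionMap_toX f 𝓘 hpc)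
    (FSch.completionMap_sq f 𝓚 𝓘 hpc) F _ (comparison hX F)
    (isIso_comparison hX F (Groth.Agent.S3854.result X 𝓚) hF fun k => FormalExist7.isCoh_pullbackMod _ hF)
    (comparisonAdj hX F) (((complMor hX).adj.homEquiv _ _).apply_symm_apply _) _
    (comparison hY ((Scheme.Modules.pushforward f).obj F))
    (isIso_comparison hY ((Scheme.Modules.pushforward f).obj F) (Groth.Agent.S3854.result Y 𝓘) hN
      fun k => FormalExist7.isCoh_pullbackMod _ hN)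
    (comparisonAdj hY _) (((complMor hY).adj.homEquiv _ _).apply_symm_apply _) i hi

end GrothLib.FPush7
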