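import Groth.Agent.Lib.FMod7.ComplPull

/-!
# Direct images along a morphism of formal systems over a morphism of schemes
-/

set_option autoImplicit false
set_option linter.style.haveILetI false
set_option linter.unusedSectionVars false
universe u

open CategoryTheory CategoryTheory.Limits AlgebraicGeometry TopologicalSpace Opposite

noncomputable section

namespace GrothLib.FPush7

open GrothLib.FMod7

theorem appLE_res {A B : Scheme.{u}} (f : A ⟶ B) (U : B.Opens) {P P' : A.Opens} (e : P ≤ f ⁻¹ᵁ U) (h : P' ≤ P)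
    (r : Γ(B, U)) : A.presheaf.map (homOfLE h).op (f.appLE U P e r) = f.appLE U P' (h.trans e) r :=
  ConcreteCategory.congr_hom (f.appLE_map e (homOfLE h).op) r

variable {𝔛 ℨ : FSch.Sys.{u}} (h𝔛 : 𝔛.IsFormal) (hℨ : ℨ.IsFormal) {X Z : Scheme.{u}}
  (p : ∀ n, 𝔛.X n ⟶ X) (hp : ∀ n, 𝔛.ι n ≫ p (n + 1) = p n)
  (q : ∀ n, ℨ.X n ⟶ Z) (hq : ∀ n, ℨ.ι n ≫ q (n + 1) = q n)
  (g : Z ⟶ X) (f : ℨ ⟶ 𝔛) (hw : ∀ n, (f : FSch.Hom ℨ 𝔛).app n ≫ p n = q n ≫ g)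

include hw in
theorem preimage_eq (V : X.Opens) : (f : FSch.Hom ℨ 𝔛).app 0 ⁻¹ᵁ (p 0 ⁻¹ᵁ V) = q 0 ⁻¹ᵁ (g ⁻¹ᵁ V) := by
  rw [← Scheme.Hom.comp_preimage, ← Scheme.Hom.comp_preimage, hw]

/-- The two ways of pulling functions back agree. -/
theorem sharp_compat (V : X.Opens) (r : Γ(X, V)) :
    (ℨ.Osh hℨ).obj.map (homOfLE (preimage_eq p q g f hw V).le).op
        ((FSch.schSharp ℨ hℨ q hq).hom.app (op (g ⁻¹ᵁ V)) (g.app V r)) =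
      (FSch.Hom.sharp f hℨ h𝔛).hom.app (op (p 0 ⁻¹ᵁ V)) ((FSch.schSharp 𝔛 h𝔛 p hp).hom.app (op V) r) := by
  refine FFormal7.Osh_section_ext ℨ hℨ _ _ _ fun n => ?_
  refine ((FMod7.proj_res hℨ (q 0 ⁻¹ᵁ (g ⁻¹ᵁ V)) (preimage_eq p q g f hw V).le n
    ((FSch.schSharp ℨ hℨ q hq).hom.app (op (g ⁻¹ᵁ V)) (g.app V r)))).trans ?_
  have hR := congrArg (fun φ : 𝔛.Osh h𝔛 ⟶ (TopCat.Sheaf.pushforward CommRingCat.{u}
      ((f : FSch.Hom ℨ 𝔛).app 0).base).obj (ℨ.levelObj hℨ n) =>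
    φ.hom.app (op (p 0 ⁻¹ᵁ V)) ((FSch.schSharp 𝔛 h𝔛 p hp).hom.app (op V) r)) (FSch.Hom.sharp_proj f hℨ h𝔛 n)
  refine Eq.trans ?_ hR.symm
  have h1 : proj ℨ hℨ (q 0 ⁻¹ᵁ (g ⁻¹ᵁ V)) n ((FSch.schSharp ℨ hℨ q hq).hom.app (op (g ⁻¹ᵁ V)) (g.app V r)) =
      (q n).appLE (g ⁻¹ᵁ V) _ (FSch.lvU_p ℨ hℨ q hq n (g ⁻¹ᵁ V)).ge (g.app V r) :=
    congrArg (fun φ : Z.sheaf ⟶ (TopCat.Sheaf.pushforward CommRingCat.{u} (q 0).base).obj (ℨ.levelObj hℨ n) =>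
      φ.hom.app (op (g ⁻¹ᵁ V)) (g.app V r)) (FSch.schSharp_proj ℨ hℨ q hq n)
  have h2 : proj 𝔛 h𝔛 (p 0 ⁻¹ᵁ V) n ((FSch.schSharp 𝔛 h𝔛 p hp).hom.app (op V) r) =
      (p n).appLE V _ (FSch.lvU_p 𝔛 h𝔛 p hp n V).ge r :=
    congrArg (fun φ : X.sheaf ⟶ (TopCat.Sheaf.pushforward CommRingCat.{u} (p 0).base).obj (𝔛.levelObj h𝔛 n) =>
      φ.hom.app (op V) r) (FSch.schSharp_proj 𝔛 h𝔛 p hp n)
  refine (congrArg (fun z => (ℨ.X n).presheaf.map _ z) h1).trans (Eq.trans ?_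
    (congrArg (fun z => ((f : FSch.Hom ℨ 𝔛).app n).appLE (𝔛.lvU h𝔛 n (p 0 ⁻¹ᵁ V))
      (ℨ.lvU hℨ n ((f : FSch.Hom ℨ 𝔛).app 0 ⁻¹ᵁ (p 0 ⁻¹ᵁ V))) (FSch.Hom.lvU_preimage f hℨ h𝔛 n (p 0 ⁻¹ᵁ V)).ge z) h2).symm)
  rw [Scheme.Hom.app_eq_appLE, ← ConcreteCategory.comp_apply (g.appLE _ _ _),
    ← ConcreteCategory.comp_apply ((p n).appLE _ _ _), Scheme.Hom.appLE_comp_appLE, Scheme.Hom.appLE_comp_appLE,
    appLE_res]
  simp only [hw]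

/-- The comparison of the two composite direct images. -/
def swap (F : FSch.ModF ℨ hℨ) :
    (ModSite.RMor.ofScheme g).push.obj ((FSch.toSchemeMor ℨ hℨ q hq).push.obj F) ⟶
      (FSch.toSchemeMor 𝔛 h𝔛 p hp).push.obj ((FSch.homMor f hℨ h𝔛).push.obj F) :=
  ⟨PresheafOfModules.homMk
    { app := fun V => F.val.presheaf.map (homOfLE (preimage_eq p q g f hw V.unop).le).op
      naturality := fun V V' i => by
        change F.val.presheaf.map _ ≫ F.val.presheaf.map _ = F.val.presheaf.map _ ≫ F.val.presheaf.map _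
        exact (F.val.presheaf.map_comp _ _).symm.trans
          ((congrArg F.val.presheaf.map (Subsingleton.elim _ _)).trans (F.val.presheaf.map_comp _ _)) }
    fun V r m => by
      refine (PresheafOfModules.map_smul F.val (homOfLE (preimage_eq p q g f hw V.unop).le).op
        ((FSch.schSharp ℨ hℨ q hq).hom.app (op (g ⁻¹ᵁ V.unop)) (g.app V.unop r)) m).trans ?_
      exact congrArg (fun z : (ModSite.ringSh (ℨ.Osh hℨ)).obj.obj (op ((f : FSch.Hom ℨ 𝔛).app 0 ⁻¹ᵁ (p 0 ⁻¹ᵁ V.unop))) =>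
        z • F.val.map (homOfLE (preimage_eq p q g f hw V.unop).le).op m) (sharp_compat h𝔛 hℨ p hp q hq g f hw V.unop r)⟩

/-- The transitions of direct images to the scheme and to the formal scheme agree. -/
theorem sTrans_res {ℨ : FSch.Sys.{u}} (hℨ : ℨ.IsFormal) {Z : Scheme.{u}} (q : ∀ n, ℨ.X n ⟶ Z)
    (hq : ∀ n, ℨ.ι n ≫ q (n + 1) = q n) (G : ∀ k, (ℨ.X k).Modules)
    (t : ∀ k, G (k + 1) ⟶ (Scheme.Modules.pushforward (ℨ.ι k)).obj (G k)) (k : ℕ) (V : Z.Opens)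
    (m : Γ((Scheme.Modules.pushforward (q (k + 1))).obj (G (k + 1)), V)) :
    sTrans hℨ (q 0 ⁻¹ᵁ V) G t k ((G (k + 1)).presheaf.map (homOfLE (FSch.lvU_p ℨ hℨ q hq (k + 1) V).ge).op m) =
      (G k).presheaf.map (homOfLE (FSch.lvU_p ℨ hℨ q hq k V).ge).op
        (((Scheme.Modules.pushforward (q (k + 1))).map (t k) ≫
          (Scheme.Modules.pushforwardComp (ℨ.ι k) (q (k + 1))).hom.app _ ≫
            (Scheme.Modules.pushforwardCongr (hq k)).hom.app _).app V m) := by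
  let W := q 0 ⁻¹ᵁ V
  let a : ℨ.lvU hℨ k W ⟶ ℨ.ι k ⁻¹ᵁ ℨ.lvU hℨ (k + 1) W := homOfLE (ℨ.lvU_le hℨ k W)
  let b : ℨ.lvU hℨ (k + 1) W ⟶ q (k + 1) ⁻¹ᵁ V := homOfLE (FSch.lvU_p ℨ hℨ q hq (k + 1) V).ge
  let c : ℨ.lvU hℨ k W ⟶ q k ⁻¹ᵁ V := homOfLE (FSch.lvU_p ℨ hℨ q hq k V).ge
  show (G k).presheaf.map a.op ((t k).app (ℨ.lvU hℨ (k + 1) W) ((G (k + 1)).presheaf.map b.op m)) = _
  rw [show (t k).app (ℨ.lvU hℨ (k + 1) W) ((G (k + 1)).presheaf.map b.op m) =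
    (G k).presheaf.map ((Opens.map (ℨ.ι k).base).map b).op ((t k).app (q (k + 1) ⁻¹ᵁ V) m) from
      PresheafOfModules.naturality_apply (t k).val b.op m]
  refine Eq.trans ?_ (ConcreteCategory.congr_hom ((G k).presheaf.map_comp _ c.op) ((t k).app (q (k + 1) ⁻¹ᵁ V) m))
  refine Eq.trans (ConcreteCategory.congr_hom ((G k).presheaf.map_comp ((Opens.map (ℨ.ι k).base).map b).op a.op) _).symm ?_
  exact congrArg (fun z => (G k).presheaf.map z ((t k).app (q (k + 1) ⁻¹ᵁ V) m)) (Subsingleton.elim _ _)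

end GrothLib.FPush7
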